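import Mathlib

/-!
Right derived functors from a class of objects which is cofinal under `W` and on which `W` is inverted.
-/

universe v₁ v₂ v₃ u₁ u₂ u₃

open CategoryTheory Limits CategoryTheory.Functor

namespace Groth.Agent.RFUnb

variable {C : Type u₁} [Category.{v₁} C] {D : Type u₂} [Category.{v₂} D]
  {H : Type u₃} [Category.{v₃} H] (W : MorphismProperty C)

/-- A class of objects computing the right derived functor of `F`. -/
structure DerivClass (F : C ⥤ H) (Pc : C → Prop) : Prop where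
  res : ∀ X : C, ∃ (X' : C) (t : X ⟶ X'), W t ∧ Pc X'
  inv : ∀ {X Y : C} (f : X ⟶ Y), Pc X → Pc Y → W f → IsIso (F.map f)

variable {W} [W.HasLeftCalculusOfFractions] {L : C ⥤ D} [L.IsLocalization W]
  {F : C ⥤ H} {Pc : C → Prop}

omit [L.IsLocalization W] in
/-- Two fractions with targets in the class that are related give the same value of `F`. -/
theorem value_eq (h : DerivClass W F Pc) {I Y : C} (hI : Pc I) (z z' : W.LeftFraction Y I)
    (hz : Pc z.Y') (hz' : Pc z'.Y') (hr : MorphismProperty.LeftFractionRel z z') :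
    F.map z.f ≫ (haveI := h.inv z.s hI hz z.hs; inv (F.map z.s)) =
      F.map z'.f ≫ (haveI := h.inv z'.s hI hz' z'.hs; inv (F.map z'.s)) := by
  obtain ⟨Z, t₁, t₂, hs, hf, hW⟩ := hr
  obtain ⟨Z', r, hr, hZ'⟩ := h.res Z
  haveI := h.inv z.s hI hz z.hs
  haveI := h.inv z'.s hI hz' z'.hs
  have hw : W (z.s ≫ t₁ ≫ r) := by
    rw [← Category.assoc]; exact W.comp_mem _ _ hW hr
  haveI := h.inv _ hI hZ' hw
  haveI i1 : IsIso (F.map z.s ≫ F.map (t₁ ≫ r)) := by rw [← F.map_comp]; infer_instance
  haveI := IsIso.of_isIso_comp_left (F.map z.s) (F.map (t₁ ≫ r))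
  haveI i2 : IsIso (F.map z'.s ≫ F.map (t₂ ≫ r)) := by
    rw [← F.map_comp, ← Category.assoc, ← hs, Category.assoc]; infer_instance
  haveI := IsIso.of_isIso_comp_left (F.map z'.s) (F.map (t₂ ≫ r))
  have e : ∀ {J : C} (g : Y ⟶ J) (s : I ⟶ J) (t : J ⟶ Z') [IsIso (F.map s)]
      [IsIso (F.map (s ≫ t))],
      F.map g ≫ inv (F.map s) = F.map (g ≫ t) ≫ inv (F.map (s ≫ t)) := by
    intro J g s t _ _
    rw [IsIso.eq_comp_inv, F.map_comp, F.map_comp, Category.assoc, IsIso.inv_hom_id_assoc]
  haveI : IsIso (F.map (z'.s ≫ t₂ ≫ r)) := by rw [F.map_comp]; infer_instance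
  rw [e z.f z.s (t₁ ≫ r), e z'.f z'.s (t₂ ≫ r)]
  simp only [reassoc_of% hf, reassoc_of% hs]

theorem exists_cocone (h : DerivClass W F Pc) {I : C} (hI : Pc I) :
    ∃ a : ∀ j : CostructuredArrow L (L.obj I), F.obj j.left ⟶ F.obj I,
      (∀ ⦃i j : CostructuredArrow L (L.obj I)⦄ (u : i ⟶ j), F.map u.left ≫ a j = a i) ∧
      a (CostructuredArrow.mk (𝟙 (L.obj I))) = 𝟙 (F.obj I) ∧
      ∀ (j : CostructuredArrow L (L.obj I)), ∃ (J : C) (g : j.left ⟶ J) (s : I ⟶ J) (_ : W s)
        (_ : IsIso (F.map s)), j.hom ≫ L.map s = L.map g ∧ a j ≫ F.map s = F.map g := by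
  have hd : ∀ j : CostructuredArrow L (L.obj I), ∃ z : W.LeftFraction j.left I, Pc z.Y' ∧
      z.map L (Localization.inverts L W) = j.hom := fun j => by
    obtain ⟨z, hz⟩ := Localization.exists_leftFraction L W j.hom
    obtain ⟨J, t, ht, hJ⟩ := h.res z.Y'
    refine ⟨MorphismProperty.LeftFraction.mk (z.f ≫ t) (z.s ≫ t) (W.comp_mem _ _ z.hs ht), hJ, ?_⟩
    rw [hz]
    refine ((MorphismProperty.LeftFraction.map_eq_iff L W _ _).2 ?_)
    exact ⟨J, 𝟙 J, t, by simp, by simp, by simpa using W.comp_mem _ _ z.hs ht⟩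
  choose z hz hzmap using hd
  let val : ∀ j : CostructuredArrow L (L.obj I), F.obj j.left ⟶ F.obj I := fun j =>
    F.map (z j).f ≫ (haveI := h.inv (z j).s hI (hz j) (z j).hs; inv (F.map (z j).s))
  refine ⟨val, fun i j u => ?_, ?_, fun j => ?_⟩
  · haveI := h.inv (z j).s hI (hz j) (z j).hs
    haveI := Localization.inverts L W (z j).s (z j).hs
    simp only [val, ← F.map_comp_assoc]
    refine value_eq h hI
      (MorphismProperty.LeftFraction.mk (u.left ≫ (z j).f) (z j).s (z j).hs) (z i) (hz j) (hz i)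
      ((MorphismProperty.LeftFraction.map_eq_iff L W _ _).1 ?_)
    rw [hzmap i, ← CostructuredArrow.w u, ← hzmap j]
    simp [MorphismProperty.LeftFraction.map]
  · refine (value_eq h hI (z _) (MorphismProperty.LeftFraction.ofHom W (𝟙 I)) (hz _) hI
      ((MorphismProperty.LeftFraction.map_eq_iff L W _ _).1 ?_)).trans ?_
    · rw [hzmap, MorphismProperty.LeftFraction.map_ofHom]
      simp
    · simp [MorphismProperty.LeftFraction.ofHom]
  · haveI := h.inv (z j).s hI (hz j) (z j).hs
    refine ⟨_, (z j).f, (z j).s, (z j).hs, inferInstance, ?_, ?_⟩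
    · haveI := Localization.inverts L W (z j).s (z j).hs
      rw [← hzmap j]
      simp [MorphismProperty.LeftFraction.map]
    · simp [val]

/-- the canonical cocone -/
def coconeOf {I : C} (a : ∀ j : CostructuredArrow L (L.obj I), F.obj j.left ⟶ F.obj I)
    (ha : ∀ ⦃i j : CostructuredArrow L (L.obj I)⦄ (u : i ⟶ j), F.map u.left ≫ a j = a i) :
    Cocone (CostructuredArrow.proj L (L.obj I) ⋙ F) where
  pt := F.obj I
  ι := { app := a, naturality := fun i j u => (ha u).trans (Category.comp_id _).symm }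

theorem hasPointwiseAt (h : DerivClass W F Pc) {I : C} (hI : Pc I) :
    HasPointwiseLeftKanExtensionAt L F (L.obj I) := by
  obtain ⟨a, ha, hid, hrep⟩ := exists_cocone (L := L) h hI
  refine ⟨⟨coconeOf a ha, { desc := fun s => s.ι.app (CostructuredArrow.mk (𝟙 (L.obj I)))
                            fac := fun s j => ?_
                            uniq := fun s m hm => ?_ }⟩⟩
  · obtain ⟨J, g, t, ht, _, hL, hF⟩ := hrep j
    haveI := Localization.inverts L W t ht
    let k : CostructuredArrow L (L.obj I) := CostructuredArrow.mk (inv (L.map t))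
    have w1 : F.map g ≫ s.ι.app k = s.ι.app j := s.w (CostructuredArrow.homMk g (by
      show L.map g ≫ inv (L.map t) = j.hom
      rw [← hL, Category.assoc, IsIso.hom_inv_id, Category.comp_id]) : j ⟶ k)
    have w2 : F.map t ≫ s.ι.app k = s.ι.app (CostructuredArrow.mk (𝟙 (L.obj I))) :=
      s.w (CostructuredArrow.homMk t (by
        show L.map t ≫ inv (L.map t) = 𝟙 _
        rw [IsIso.hom_inv_id]) : CostructuredArrow.mk (𝟙 (L.obj I)) ⟶ k)
    refine (congrArg (a j ≫ ·) w2.symm).trans ?_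
    exact (Category.assoc _ _ _).symm.trans ((congrArg (· ≫ s.ι.app k) hF).trans w1)
  · have h1 := hm (CostructuredArrow.mk (𝟙 (L.obj I)))
    rw [← h1]
    exact ((congrArg (· ≫ m) hid).trans (Category.id_comp m)).symm

theorem isIso_hom_app (h : DerivClass W F Pc) {E : LeftExtension L F} {I : C} (hI : Pc I)
    (hE : E.IsPointwiseLeftKanExtensionAt (L.obj I)) : IsIso (E.hom.app I) := by
  obtain ⟨a, ha, hid, hrep⟩ := exists_cocone (L := L) h hI
  have h1 := hE.fac (coconeOf a ha) (CostructuredArrow.mk (𝟙 (L.obj I)))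
  have e1 : E.hom.app I ≫ E.right.map (𝟙 (L.obj I)) = E.hom.app I := by
    rw [CategoryTheory.Functor.map_id]; exact Category.comp_id _
  refine ⟨hE.desc (coconeOf a ha),
    (congrArg (· ≫ hE.desc (coconeOf a ha)) e1).symm.trans (h1.trans hid),
    hE.hom_ext fun j => ?_⟩
  refine Eq.trans ?_ (Category.comp_id _).symm
  refine (Category.assoc _ _ _).symm.trans
    ((congrArg (· ≫ E.hom.app I) (hE.fac (coconeOf a ha) j)).trans ?_)
  obtain ⟨J, g, t, ht, _, hL, hF⟩ := hrep j
  haveI := Localization.inverts L W t ht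
  show a j ≫ E.hom.app I = E.hom.app j.left ≫ E.right.map j.hom
  have nt : F.map t ≫ E.hom.app J = E.hom.app I ≫ E.right.map (L.map t) := E.hom.naturality t
  have ng : F.map g ≫ E.hom.app J = E.hom.app j.left ≫ E.right.map (L.map g) :=
    E.hom.naturality g
  rw [← cancel_mono (E.right.map (L.map t))]
  refine (Category.assoc _ _ _).trans ((congrArg (a j ≫ ·) nt.symm).trans ?_)
  refine (Category.assoc _ _ _).symm.trans ((congrArg (· ≫ E.hom.app J) hF).trans (ng.trans ?_))
  rw [← hL, CategoryTheory.Functor.map_comp, Category.assoc]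

theorem hasPointwiseRightDerived (h : DerivClass W F Pc) : F.HasPointwiseRightDerivedFunctor W := by
  intro X
  rw [F.hasPointwiseRightDerivedFunctorAt_iff W.Q W]
  obtain ⟨X', t, ht, hX'⟩ := h.res X
  rw [hasPointwiseLeftKanExtensionAt_iff_of_iso W.Q F (Localization.isoOfHom W.Q W t ht)]
  exact hasPointwiseAt h hX'

/-- the unit is invertible on the class -/
theorem isIso_app (h : DerivClass W F Pc) (RF : D ⥤ H) (α : F ⟶ L ⋙ RF)
    [RF.IsRightDerivedFunctor α W] {I : C} (hI : Pc I) : IsIso (α.app I) :=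
  haveI := hasPointwiseRightDerived h
  isIso_hom_app (E := LeftExtension.mk RF α) h hI
    (Functor.isPointwiseLeftKanExtensionOfHasPointwiseRightDerivedFunctor RF (α := α) W (L.obj I))

end Groth.Agent.RFUnb
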