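import Groth.Agent.RFUnb.Class
import Groth.Agent.UnbRes.Basic
import Groth.Agent.RFPlus.Acyc

/-!
Right derived functors on unbounded complexes for functors of finite cohomological dimension.
-/

set_option autoImplicit false

universe w w' v v' u u'

open CategoryTheory CategoryTheory.Limits

namespace Groth.Agent.RFUnb

variable {A : Type u} [Category.{v} A] [Abelian A] [EnoughInjectives A]
  {B : Type u'} [Category.{v'} B] [Abelian B] (F : A ⥤ B) [F.Additive]

theorem enoughInjectives_of_hasInjectiveResolutions {C : Type u} [Category.{v} C] [Abelian C]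
    [HasInjectiveResolutions C] : EnoughInjectives C :=
  ⟨fun X => ⟨{ J := (injectiveResolution X).cocomplex.X 0, injective := inferInstance,
               f := (injectiveResolution X).ι.f 0,
               mono := inferInstanceAs (Mono ((injectiveResolution X).ι.f 0)) }⟩⟩

/-- `Rⁱ F X = 0` for all `i ≥ k`. -/
def Dim (k : ℕ) (X : A) : Prop := ∀ i : ℕ, k ≤ i → IsZero ((F.rightDerived i).obj X)

theorem acyc_iff_dim (X : A) : RFPlus.Acyc F X ↔ Dim F 1 X :=
  ⟨fun h i hi => h i hi, fun h i hi => h i hi⟩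

/-- Dimension shifting along a short exact sequence with acyclic middle term. -/
theorem dim₃ (S : ShortComplex A) (hS : S.ShortExact) (h₂ : RFPlus.Acyc F S.X₂) {k : ℕ}
    (h₁ : Dim F (k + 1) S.X₁) : Dim F (max 1 k) S.X₃ := by
  letI := HasDerivedCategory.standard A
  letI := HasDerivedCategory.standard B
  intro i hi
  obtain ⟨w, δ, w₂, w₃, -, x₂, -⟩ := RFPlus.les F S hS i (i + 1) rfl
  exact (x₂.isZero_of_both_zeros ((RFPlus.isZero_hobj F h₂ (by omega)).eq_of_src _ _)
    (((h₁ (i + 1) (by omega)).of_iso (RFPlus.nonempty_hobj_iso F _ _).some).eq_of_tgt _ _)).of_iso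
      (RFPlus.nonempty_hobj_iso F _ i).some.symm

theorem dim_of_vanish (n : ℕ) (hn : ∀ X : A, IsZero ((F.rightDerived n).obj X)) (X : A) :
    Dim F n X := by
  letI := HasDerivedCategory.standard A
  letI := HasDerivedCategory.standard B
  intro i hi
  obtain ⟨d, rfl⟩ := Nat.le.dest hi
  clear hi
  induction d generalizing X with
  | zero => exact hn X
  | succ d ih =>
    let S := ShortComplex.mk (Injective.ι X) (cokernel.π (Injective.ι X)) (cokernel.condition _)
    have hS : S.ShortExact := { exact := ShortComplex.exact_cokernel _ }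
    obtain ⟨w, δ, w₂, w₃, -, -, x₃⟩ := RFPlus.les F S hS (n + d) (n + d + 1) rfl
    exact (x₃.isZero_of_both_zeros
      (((ih _).of_iso (RFPlus.nonempty_hobj_iso F _ _).some).eq_of_src _ _)
      ((RFPlus.isZero_hobj F (RFPlus.Acyc.of_injective F (Injective.under X))
        (Nat.succ_pos (n + d))).eq_of_tgt _ _)).of_iso
        (RFPlus.nonempty_hobj_iso F _ (n + d + 1)).some.symm

theorem acyc_biprod {X Y : A} (hX : RFPlus.Acyc F X) (hY : RFPlus.Acyc F Y) :
    RFPlus.Acyc F (X ⊞ Y) := by
  letI := HasDerivedCategory.standard A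
  letI := HasDerivedCategory.standard B
  exact RFPlus.acyc₂ F _ ((ShortComplex.Splitting.ofHasBinaryBiproduct X Y).shortExact) hX hY

/-- `Zⁱ → Kⁱ → Zⁱ⁺¹`. -/
noncomputable abbrev cycSc {ι : Type*} {c : ComplexShape ι} (K : HomologicalComplex A c) (i j : ι) :
    ShortComplex A :=
  ShortComplex.mk (K.iCycles i) (K.toCycles i j) (by
    rw [← cancel_mono (K.iCycles j), Category.assoc, HomologicalComplex.toCycles_i,
      HomologicalComplex.iCycles_d, zero_comp])

omit [EnoughInjectives A] in
theorem shortExact_cycSc {ι : Type*} {c : ComplexShape ι} (K : HomologicalComplex A c) (i j : ι)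
    (hij : c.next i = j) (hji : c.prev j = i) (h : K.ExactAt j) : (cycSc K i j).ShortExact where
  exact := by
    apply ShortComplex.exact_of_f_is_kernel
    refine KernelFork.IsLimit.ofι' _ _ fun {W} k hk => ⟨K.liftCycles k j hij (by
      rw [← K.toCycles_i i j, reassoc_of% hk, zero_comp]), by simp⟩
  mono_f := inferInstanceAs (Mono (K.iCycles i))
  epi_g := by
    rw [HomologicalComplex.exactAt_iff_isZero_homology] at h
    exact ShortComplex.Exact.epi_f
      (S := ShortComplex.mk (K.toCycles i j) (K.homologyπ j) (K.toCycles_comp_homologyπ _ _))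
      (ShortComplex.exact_of_g_is_cokernel _ (K.homologyIsCokernel i j hji))
      (h.eq_of_tgt _ _)

omit [EnoughInjectives A] in
theorem acyclic_map_of_cycles (K : CochainComplex A ℤ)
    (hall : ∀ n : ℤ, ((cycSc K n (n + 1)).map F).ShortExact) :
    ((F.mapHomologicalComplex (ComplexShape.up ℤ)).obj K).Acyclic := by
  intro n
  obtain ⟨m, rfl⟩ : ∃ m : ℤ, n = m + 1 := ⟨n - 1, by ring⟩
  rw [HomologicalComplex.exactAt_iff' _ m (m + 1) (m + 1 + 1) (by simp) (by simp)]
  let M : ShortComplex B := ShortComplex.mk (F.map (K.d m (m + 1)))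
    (F.map (K.toCycles (m + 1) (m + 1 + 1))) (by
      rw [← F.map_comp, ← K.toCycles_i m (m + 1), Category.assoc,
        (cycSc K (m + 1) (m + 1 + 1)).zero, comp_zero, F.map_zero])
  let φ : M ⟶ (cycSc K (m + 1) (m + 1 + 1)).map F :=
    { τ₁ := F.map (K.toCycles m (m + 1))
      τ₂ := 𝟙 _
      τ₃ := 𝟙 _
      comm₁₂ := by
        change F.map _ ≫ F.map _ = F.map _ ≫ 𝟙 _
        rw [Category.comp_id, ← F.map_comp, K.toCycles_i]
      comm₂₃ := by
        change 𝟙 _ ≫ F.map _ = F.map _ ≫ 𝟙 _
        rw [Category.id_comp, Category.comp_id] }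
  let ψ : M ⟶ ((F.mapHomologicalComplex (ComplexShape.up ℤ)).obj K).sc' m (m + 1) (m + 1 + 1) :=
    { τ₁ := 𝟙 _
      τ₂ := 𝟙 _
      τ₃ := F.map (K.iCycles (m + 1 + 1))
      comm₁₂ := by
        change 𝟙 _ ≫ F.map _ = F.map _ ≫ 𝟙 _
        rw [Category.id_comp, Category.comp_id]
      comm₂₃ := by
        change 𝟙 _ ≫ F.map _ = F.map _ ≫ F.map _
        rw [Category.id_comp, ← F.map_comp, K.toCycles_i] }
  haveI : Epi φ.τ₁ := (hall m).epi_g
  haveI : IsIso φ.τ₂ := inferInstanceAs (IsIso (𝟙 _))
  haveI : Mono φ.τ₃ := inferInstanceAs (Mono (𝟙 _))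
  haveI : Epi ψ.τ₁ := inferInstanceAs (Epi (𝟙 _))
  haveI : IsIso ψ.τ₂ := inferInstanceAs (IsIso (𝟙 _))
  haveI : Mono ψ.τ₃ := (hall (m + 1 + 1)).mono_f
  rw [← ShortComplex.exact_iff_of_epi_of_isIso_of_mono ψ,
    ShortComplex.exact_iff_of_epi_of_isIso_of_mono φ]
  exact (hall (m + 1)).exact

theorem acyclic_map [PreservesFiniteLimits F] (n : ℕ)
    (hn : ∀ X : A, IsZero ((F.rightDerived n).obj X)) (K : CochainComplex A ℤ) (hK : K.Acyclic)
    (hT : ∀ m, RFPlus.Acyc F (K.X m)) :
    ((F.mapHomologicalComplex (ComplexShape.up ℤ)).obj K).Acyclic := by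
  have hS : ∀ m : ℤ, (cycSc K m (m + 1)).ShortExact :=
    fun m => shortExact_cycSc K m (m + 1) (by simp) (by simp) (hK _)
  have hZ : ∀ (k : ℕ) (m : ℤ), Dim F (max 1 (n - k)) (K.cycles m) := by
    intro k
    induction k with
    | zero => exact fun m i hi => dim_of_vanish F n hn _ i (by omega)
    | succ k ih =>
      intro m i hi
      have h := dim₃ F _ (hS (m - 1)) (hT _) (k := max 1 (n - k) - 1)
        (fun i hi => ih (m - 1) i (by omega)) i (by omega)
      rwa [show m - 1 + 1 = m by ring] at h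
  have hA : ∀ m, RFPlus.Acyc F (K.cycles m) := fun m i hi => hZ n m i (by omega)
  exact acyclic_map_of_cycles F K fun m =>
    (RFPlus.acyc_shortExact F _ (hS m) (hA m) (hT m)).2

theorem ctx [PreservesFiniteLimits F] (n : ℕ) (hn : ∀ X : A, IsZero ((F.rightDerived n).obj X)) :
    UnbRes.Ctx (RFPlus.Acyc F) (max n 1) where
  emb X := ⟨_, Injective.ι X, RFPlus.Acyc.of_injective F _, inferInstance⟩
  two S hS h₁ := by
    letI := HasDerivedCategory.standard A
    letI := HasDerivedCategory.standard B
    exact ⟨fun h₂ => RFPlus.acyc₃ F S hS h₁ h₂, fun h₃ => RFPlus.acyc₂ F S hS h₁ h₃⟩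
  pos := le_max_right _ _
  dim K hex hz hepi hP := by
    let N := max n 1
    have key : ∀ k, k ≤ N → Dim F (max 1 (N - k)) (K.cycles k) := by
      intro k
      induction k with
      | zero => exact fun _ i hi => dim_of_vanish F n hn _ i (by omega)
      | succ k ih =>
        intro hk i hi
        exact dim₃ F _ (shortExact_cycSc K k (k + 1) (by simp) (by simp)
          (hex (k + 1) (by omega) hk)) (hP k (by omega)) (k := max 1 (N - k) - 1)
          (fun i hi => ih (by omega) i (by omega)) i (by omega)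
    haveI : IsIso (K.iCycles N) :=
      K.isIso_iCycles N (N + 1) (by simp) ((hz (N + 1) (by omega)).eq_of_tgt _ _)
    have hN : RFPlus.Acyc F (K.cycles N) := fun i hi => key N le_rfl i (by omega)
    exact hN.of_iso (asIso (K.iCycles N))

variable [HasDerivedCategory.{w} A] [HasDerivedCategory.{w'} B]

/-- Complexes with acyclic terms compute `RF` on the unbounded derived category. -/
theorem derivClass [PreservesFiniteLimits F] (n : ℕ)
    (hn : ∀ X : A, IsZero ((F.rightDerived n).obj X)) :
    DerivClass (HomotopyCategory.quasiIso A (ComplexShape.up ℤ))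
      (F.mapHomotopyCategory (ComplexShape.up ℤ) ⋙ DerivedCategory.Qh)
      (fun K => ∀ m, RFPlus.Acyc F (K.as.X m)) where
  res K := by
    obtain ⟨K, rfl⟩ := HomotopyCategory.quotient_obj_surjective K
    obtain ⟨L, f, hf, hL⟩ := UnbRes.exists_quasiIso (ctx F n hn) K
    exact ⟨_, (HomotopyCategory.quotient A (ComplexShape.up ℤ)).map f,
      (HomotopyCategory.quotient_map_mem_quasiIso_iff f).2 hf, hL⟩
  inv {X Y} f hX hY hf := by
    obtain ⟨X, rfl⟩ := HomotopyCategory.quotient_obj_surjective X
    obtain ⟨Y, rfl⟩ := HomotopyCategory.quotient_obj_surjective Y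
    obtain ⟨f, rfl⟩ := (HomotopyCategory.quotient A (ComplexShape.up ℤ)).map_surjective f
    rw [HomotopyCategory.quotient_map_mem_quasiIso_iff, HomologicalComplex.mem_quasiIso_iff] at hf
    have h := acyclic_map F n hn (CochainComplex.mappingCone f)
      ((RFPlus.acyclic_mappingCone_iff f).2 hf) (fun m =>
        (acyc_biprod F (hX (m + 1)) (hY m)).of_iso
          (HomologicalComplex.homotopyCofiber.XIsoBiprod f m (m + 1) rfl).symm)
    have h' : QuasiIso ((F.mapHomologicalComplex (ComplexShape.up ℤ)).map f) :=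
      (RFPlus.acyclic_mappingCone_iff _).1 fun m =>
        (h m).of_iso (CochainComplex.mappingCone.mapHomologicalComplexIso f F)
    rw [← DerivedCategory.isIso_Q_map_iff_quasiIso] at h'
    exact (NatIso.isIso_map_iff (DerivedCategory.quotientCompQhIso B)
      ((F.mapHomologicalComplex (ComplexShape.up ℤ)).map f)).2 h'

end Groth.Agent.RFUnb
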